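import Cfsg.Agent.Lib.HallHigmanB.Clifford

/-!
# A regular orbit of a group of commuting involutions

`Q` is a group of odd order and class two, whose elements central on `V₀` are scalars there, and `E`
is a group of commuting involutions normalising `Q`, each nontrivial one moving some element of `Q`
modulo the kernel on `V₀`. Then the sum of the elements of `E` does not vanish on `V₀`.

By induction on `E`: take `u` with maximal fixed subgroup `Q₂`; the image `(u - 1) V₀` is a module for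
`Q₂` and for a complement of `u` in `E` with the same hypotheses.
-/

set_option autoImplicit false
set_option linter.unusedSectionVars false

namespace Cfsg.Agent.Lib.DerTwoLength71

open Module Subgroup Cfsg.Agent.Lib.HallHigmanB
open scoped commutatorElement

variable {K V G : Type*} [Field K] [CharP K 2] [AddCommGroup V] [Module K V] [Group G] [Finite G]
  (ρ : G →* Module.End K V)

/-- `g` is trivial on `V₀`. -/
def TrivOn (V₀ : Submodule K V) (g : G) : Prop :=
  ∀ v ∈ V₀, ρ g v = v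

/-- `g` preserves `V₀`. -/
def Keeps (V₀ : Submodule K V) (g : G) : Prop :=
  ∀ v ∈ V₀, ρ g v ∈ V₀

variable {ρ} {V₀ : Submodule K V}

theorem TrivOn.keeps {g : G} (h : TrivOn ρ V₀ g) : Keeps ρ V₀ g := fun v hv => by
  rw [h v hv]; exact hv

theorem TrivOn.mul {g h : G} (hg : TrivOn ρ V₀ g) (hh : TrivOn ρ V₀ h) : TrivOn ρ V₀ (g * h) :=
  fun v hv => by rw [map_mul, Module.End.mul_apply, hh v hv, hg v hv]

theorem TrivOn.inv {g : G} (hg : TrivOn ρ V₀ g) : TrivOn ρ V₀ g⁻¹ := fun v hv => by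
  conv_lhs => rw [← hg v hv]
  exact apply_inv_apply ρ g v

theorem TrivOn.conj {g h : G} (hh : Keeps ρ V₀ h⁻¹) (hg : TrivOn ρ V₀ g) :
    TrivOn ρ V₀ (h * g * h⁻¹) := fun v hv => by
  rw [map_mul, map_mul, Module.End.mul_apply, Module.End.mul_apply, hg _ (hh v hv), apply_apply_inv]

/-- An element of odd order with square trivial is trivial. -/
theorem TrivOn.of_sq {g : G} (ho : Odd (orderOf g)) (h : TrivOn ρ V₀ (g * g)) : TrivOn ρ V₀ g := by
  obtain ⟨n, hn⟩ := ho
  have hpow : ∀ i : ℕ, TrivOn ρ V₀ ((g * g) ^ i) := by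
    intro i
    induction i with
    | zero => intro v _; simp
    | succ i ih => rw [pow_succ]; exact ih.mul h
  have e : g = ((g * g) ^ n)⁻¹ := by
    rw [eq_inv_iff_mul_eq_one, ← pow_two, ← pow_mul, ← pow_succ', ← hn, pow_orderOf_eq_one]
  rw [e]
  exact (hpow n).inv

variable (ρ) in
/-- The setting. -/
structure FreeData (V₀ : Submodule K V) (Q : Subgroup G) : Prop where
  ne_bot : V₀ ≠ ⊥
  keeps : ∀ g ∈ Q, Keeps ρ V₀ g
  odd : Odd (Nat.card Q)
  cls : ∀ a ∈ Q, ∀ b ∈ Q, ∀ c ∈ Q, ⁅a, b⁆ * c = c * ⁅a, b⁆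
  scalar : ∀ x ∈ Q, (∀ w ∈ Q, TrivOn ρ V₀ ⁅x, w⁆) → ∃ c : K, ∀ v ∈ V₀, ρ x v = c • v

variable {Q : Subgroup G}

theorem FreeData.odd_order (h : FreeData ρ V₀ Q) {g : G} (hg : g ∈ Q) : Odd (orderOf g) :=
  h.odd.of_dvd_nat (Subgroup.orderOf_dvd_natCard Q hg)

theorem comm_mem {a b : G} (ha : a ∈ Q) (hb : b ∈ Q) : ⁅a, b⁆ ∈ Q :=
  mul_mem (mul_mem (mul_mem ha hb) (inv_mem ha)) (inv_mem hb)

theorem inv_mul_conj_mem {a b : G} (ha : a ∈ Q) (hb : b ∈ Q) : a * b * a⁻¹ ∈ Q :=
  mul_mem (mul_mem ha hb) (inv_mem ha)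

/-- Central elements of `Q` are scalars. -/
theorem FreeData.central (h : FreeData ρ V₀ Q) {x : G} (hx : x ∈ Q)
    (hc : ∀ w ∈ Q, x * w = w * x) : ∃ c : K, ∀ v ∈ V₀, ρ x v = c • v :=
  h.scalar x hx fun w hw v _ => by
    rw [commutatorElement_eq_one_iff_mul_comm.2 (hc w hw), map_one, Module.End.one_apply]

/-- Scalars in `Q` commute with everything keeping `V₀`. -/
theorem FreeData.scalar_conj {x u : G} {c : K} (hc : ∀ v ∈ V₀, ρ x v = c • v)
    (hu : Keeps ρ V₀ u⁻¹) : ∀ v ∈ V₀, ρ (u * x * u⁻¹) v = c • v := fun v hv => by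
  rw [map_mul, map_mul, Module.End.mul_apply, Module.End.mul_apply, hc _ (hu v hv), map_smul,
    apply_apply_inv]

/-- The fixed subgroup of an element modulo the kernel. -/
def fixOn (h : FreeData ρ V₀ Q) {u : G} (hu : u ∈ normalizer (Q : Set G)) (huk : Keeps ρ V₀ u) :
    Subgroup G where
  carrier := {x | x ∈ Q ∧ TrivOn ρ V₀ (u * x * u⁻¹ * x⁻¹)}
  one_mem' := ⟨one_mem Q, fun v _ => by simp⟩
  mul_mem' := fun {a b} ha hb => ⟨mul_mem ha.1 hb.1, by
    rw [show u * (a * b) * u⁻¹ * (a * b)⁻¹ =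
      (u * a * u⁻¹ * a⁻¹) * (a * (u * b * u⁻¹ * b⁻¹) * a⁻¹) by group]
    exact ha.2.mul (hb.2.conj (h.keeps _ (inv_mem ha.1)))⟩
  inv_mem' := fun {a} ha => ⟨inv_mem ha.1, by
    rw [show u * a⁻¹ * u⁻¹ * a⁻¹⁻¹ = a⁻¹ * (u * a * u⁻¹ * a⁻¹)⁻¹ * a⁻¹⁻¹ by group]
    exact ha.2.inv.conj (by rw [inv_inv]; exact h.keeps _ ha.1)⟩

theorem fixOn_le (h : FreeData ρ V₀ Q) {u : G} (hu : u ∈ normalizer (Q : Set G))
    (huk : Keeps ρ V₀ u) : fixOn h hu huk ≤ Q := fun _ hx => hx.1

/-- `v` times its conjugate by an involution is fixed. -/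
theorem mul_conj_mem_fixOn (h : FreeData ρ V₀ Q) {u : G} (hu : u ∈ normalizer (Q : Set G))
    (huk : Keeps ρ V₀ u) (hu2 : u * u = 1) {v : G} (hv : v ∈ Q) :
    v * (u * v * u⁻¹) ∈ fixOn h hu huk := by
  have hu' : u⁻¹ = u := inv_eq_of_mul_eq_one_right hu2
  set w := u * v * u⁻¹ with hw
  have hwQ : w ∈ Q := conj_mem hu hv
  refine ⟨mul_mem hv hwQ, ?_⟩
  have huw : u * w * u⁻¹ = v := by
    rw [hw, show u * (u * v * u⁻¹) * u⁻¹ = (u * u) * v * (u * u)⁻¹ by group, hu2]; group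
  have huvw : u * ⁅w, v⁆ * u⁻¹ = ⁅v, w⁆ := by
    calc u * ⁅w, v⁆ * u⁻¹ = ⁅u * w * u⁻¹, u * v * u⁻¹⁆ := by simp only [commutatorElement_def]; group
      _ = ⁅v, w⁆ := by rw [huw, ← hw]
  rw [show u * (v * w) * u⁻¹ * (v * w)⁻¹ = ⁅w, v⁆ by
    rw [show u * (v * w) * u⁻¹ = u * v * u⁻¹ * (u * w * u⁻¹) by group, huw, ← hw,
      commutatorElement_def]
    group]
  obtain ⟨c, hc⟩ := h.central (comm_mem hwQ hv) fun z hz => h.cls _ hwQ _ hv z hz
  refine TrivOn.of_sq (h.odd_order (comm_mem hwQ hv)) fun x hx => ?_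
  have h1 := FreeData.scalar_conj hc (u := u) (by rw [hu']; exact huk) x hx
  rw [huvw, ← commutatorElement_inv w v] at h1
  rw [map_mul, Module.End.mul_apply, hc x hx, map_smul, hc x hx]
  conv_rhs => rw [← apply_apply_inv ρ ⁅w, v⁆ x, h1, map_smul, hc x hx]

/-- Two elements of equal fixed subgroups act alike. -/
theorem trivOn_of_fixOn_eq (h : FreeData ρ V₀ Q) {u e : G} (hu : u ∈ normalizer (Q : Set G))
    (huk : Keeps ρ V₀ u) (hu2 : u * u = 1) (he : e ∈ normalizer (Q : Set G)) (hek : Keeps ρ V₀ e)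
    (he2 : e * e = 1) (hcomm : u * e = e * u) (hle : fixOn h hu huk ≤ fixOn h he hek) (hle' : fixOn h he hek ≤ fixOn h hu huk)
    {v : G} (hv : v ∈ Q) : TrivOn ρ V₀ (u * e * v * (u * e)⁻¹ * v⁻¹) := by
  have hu' : u⁻¹ = u := inv_eq_of_mul_eq_one_right hu2
  have he' : e⁻¹ = e := inv_eq_of_mul_eq_one_right he2
  set vu := u * v * u⁻¹ with hvu
  set ve := e * v * e⁻¹ with hve
  have hvuQ : vu ∈ Q := conj_mem hu hv
  have hveQ : ve ∈ Q := conj_mem he hv
  have hz : vu⁻¹ * ve ∈ fixOn h hu huk := by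
    rw [show vu⁻¹ * ve = (v * vu)⁻¹ * (v * ve) by group]
    exact mul_mem (inv_mem (mul_conj_mem_fixOn h hu huk hu2 hv))
      (hle' (mul_conj_mem_fixOn h he hek he2 hv))
  have hz2 := hz.2
  have hz3 := (hle hz).2
  set a := u * ve * u⁻¹ with ha
  set b := e * vu * e⁻¹ with hb
  have hua : u * (vu⁻¹ * ve) * u⁻¹ = v⁻¹ * a := by
    rw [hvu, ha, show u * ((u * v * u⁻¹)⁻¹ * ve) * u⁻¹ = (u * u) * v⁻¹ * u⁻¹ * ve * u⁻¹ by group,
      hu2, hu']
    group
  have heb : e * (vu⁻¹ * ve) * e⁻¹ = b⁻¹ * v := by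
    rw [hve, hb, show e * (vu⁻¹ * (e * v * e⁻¹)) * e⁻¹ = (e * vu * e⁻¹)⁻¹ * (e * e) * v * (e * e)⁻¹ by
      group, he2]
    group
  rw [hua] at hz2
  rw [heb] at hz3
  have hbQ : b ∈ Q := conj_mem he hvuQ
  have haQ : a ∈ Q := conj_mem hu hveQ
  have hba : b = a := by
    rw [ha, hb, hve, hvu, show u * (e * v * e⁻¹) * u⁻¹ = (u * e) * v * (u * e)⁻¹ by group, hcomm]
    group
  rw [hba] at hz3
  have hab : TrivOn ρ V₀ ((v⁻¹ * a) * (v⁻¹ * a)) := by
    rw [show (v⁻¹ * a) * (v⁻¹ * a) =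
      (v⁻¹ * a * (vu⁻¹ * ve)⁻¹) * (a⁻¹ * v * (vu⁻¹ * ve)⁻¹)⁻¹ by group]
    exact hz2.mul hz3.inv
  have h1 := (TrivOn.of_sq (h.odd_order (mul_mem (inv_mem hv) haQ)) hab).conj
    (h.keeps _ (inv_mem hv))
  rw [show u * e * v * (u * e)⁻¹ * v⁻¹ = v * (v⁻¹ * a) * v⁻¹ by rw [ha, hve]; group]
  exact h1

variable (ρ) in
/-- The hypotheses on the group of involutions. -/
structure ActsFree (V₀ : Submodule K V) (Q E : Subgroup G) : Prop where
  norm : E ≤ normalizer (Q : Set G)
  keeps : ∀ e ∈ E, Keeps ρ V₀ e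
  sq : ∀ e ∈ E, e * e = 1
  comm : ∀ a ∈ E, ∀ b ∈ E, a * b = b * a
  faith : ∀ e ∈ E, e ≠ 1 → ∃ v ∈ Q, ¬ TrivOn ρ V₀ (e * v * e⁻¹ * v⁻¹)

/-- `ρ u - 1` commutes on `V₀` with what `u` fixes. -/
theorem apply_sub_one_comm {u g : G} (hg : Keeps ρ V₀ g) (hu : Keeps ρ V₀ u)
    (hc : TrivOn ρ V₀ (u * g * u⁻¹ * g⁻¹)) {v : V} (hv : v ∈ V₀) :
    ρ g ((ρ u - 1) v) = (ρ u - 1) (ρ g v) := by
  rw [LinearMap.sub_apply, LinearMap.sub_apply, Module.End.one_apply, Module.End.one_apply, map_sub]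
  congr 1
  rw [← hc _ (hg _ (hu v hv)), ← Module.End.mul_apply, ← Module.End.mul_apply, ← map_mul, ← map_mul,
    ← Module.End.mul_apply, ← map_mul]
  congr 2
  group

open Classical in
/-- The sum over a finite set of elements. -/
noncomputable def sumOf (S : Set G) : Module.End K V :=
  ∑ g ∈ Set.Finite.toFinset (Set.toFinite S), ρ g

theorem sumOf_pair {E E' : Subgroup G} {u : G} (huE : u ∈ E) (hle : E' ≤ E) (hu : u ∉ E')
    (hcover : ∀ x ∈ E, x ∈ E' ∨ x * u ∈ E') (hu2 : u * u = 1) :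
    sumOf (ρ := ρ) (E : Set G) = sumOf (ρ := ρ) (E' : Set G) * (ρ u - 1) := by
  classical
  have hset : (Set.toFinite (E : Set G)).toFinset =
      (Set.toFinite (E' : Set G)).toFinset ∪ (Set.toFinite (E' : Set G)).toFinset.image (· * u) := by
    ext x
    simp only [Set.Finite.mem_toFinset, SetLike.mem_coe, Finset.mem_union, Finset.mem_image]
    constructor
    · intro hx
      rcases hcover x hx with h | h
      · exact Or.inl h
      · exact Or.inr ⟨x * u, h, by rw [mul_assoc, hu2, mul_one]⟩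
    · rintro (h | ⟨y, hy, rfl⟩)
      · exact hle h
      · exact mul_mem (hle hy) huE
  have hdisj : Disjoint (Set.toFinite (E' : Set G)).toFinset
      ((Set.toFinite (E' : Set G)).toFinset.image (· * u)) := by
    rw [Finset.disjoint_left]
    intro x hx hx'
    simp only [Set.Finite.mem_toFinset, SetLike.mem_coe, Finset.mem_image] at hx hx'
    obtain ⟨y, hy, rfl⟩ := hx'
    exact hu (by simpa using mul_mem (inv_mem hy) hx)
  have hneg : ∀ f : Module.End K V, -f = f := fun f => LinearMap.ext fun v => by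
    rw [LinearMap.neg_apply, ← neg_one_smul K, CharTwo.neg_eq, one_smul]
  unfold sumOf
  rw [hset, Finset.sum_union hdisj, Finset.sum_image (fun a _ b _ hab => mul_right_cancel hab),
    mul_sub, mul_one, Finset.sum_mul, sub_eq_add_neg, hneg, add_comm]
  congr 1
  exact Finset.sum_congr rfl fun g _ => map_mul ρ g u

/-- **The sum over the group does not vanish.** -/
theorem sum_ne_zero : ∀ (n : ℕ) {V₀ : Submodule K V} {Q E : Subgroup G}, Nat.card E ≤ n →
    FreeData ρ V₀ Q → ActsFree ρ V₀ Q E → ∃ v ∈ V₀, sumOf (ρ := ρ) (E : Set G) v ≠ 0 := by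
  classical
  intro n
  induction n with
  | zero =>
    intro V₀ Q E hn
    exact absurd hn (Nat.not_le.2 Nat.card_pos)
  | succ n ih =>
    intro V₀ Q E hn hQ hE
    by_cases hbot : E = ⊥
    · obtain ⟨v, hv, hv0⟩ := (Submodule.ne_bot_iff V₀).1 hQ.ne_bot
      refine ⟨v, hv, ?_⟩
      unfold sumOf
      rw [show (Set.toFinite (E : Set G)).toFinset = {1} by ext x; simp [hbot]]
      simpa using hv0
    -- an element with maximal fixed subgroup
    let F : G → Subgroup G := fun e =>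
      if he : e ∈ E then fixOn hQ (hE.norm he) (hE.keeps e he) else ⊥
    have hF : ∀ e (he : e ∈ E), F e = fixOn hQ (hE.norm he) (hE.keeps e he) := fun e he => dif_pos he
    obtain ⟨e₀, he₀, he₀1⟩ := (E.bot_or_exists_ne_one).resolve_left hbot
    obtain ⟨u, ⟨huE, hu1⟩, humax⟩ := (Set.toFinite {e | e ∈ E ∧ e ≠ 1}).exists_maximalFor F _
      ⟨e₀, he₀, he₀1⟩
    have hu2 := hE.sq u huE
    have hun := hE.norm huE
    have huk := hE.keeps u huE
    set Q₂ := fixOn hQ hun huk with hQ₂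
    -- a complement of `u`
    obtain ⟨E', ⟨hE'le, huE'⟩, hE'max⟩ :=
      (Set.toFinite {A : Subgroup G | A ≤ E ∧ u ∉ A}).exists_maximal
        ⟨⊥, bot_le, fun h => hu1 (mem_bot.1 h)⟩
    have hcover : ∀ x ∈ E, x ∈ E' ∨ x * u ∈ E' := by
      intro x hx
      by_contra hcon
      rw [not_or] at hcon
      -- the subgroup `E' ∪ x E'`
      let A : Subgroup G :=
        { carrier := {y | y ∈ E ∧ (y ∈ E' ∨ y * x ∈ E')}
          one_mem' := ⟨one_mem E, Or.inl (one_mem E')⟩
          inv_mem' := fun {a} ha => by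
            rw [show a⁻¹ = a from inv_eq_of_mul_eq_one_right (hE.sq a ha.1)]
            exact ha
          mul_mem' := fun {a b} ha hb => by
            refine ⟨mul_mem ha.1 hb.1, ?_⟩
            rcases ha.2 with h1 | h1 <;> rcases hb.2 with h2 | h2
            · exact Or.inl (mul_mem h1 h2)
            · exact Or.inr (by rw [mul_assoc]; exact mul_mem h1 h2)
            · refine Or.inr ?_
              rw [mul_assoc, hE.comm b hb.1 x hx, ← mul_assoc]
              exact mul_mem h1 h2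
            · refine Or.inl ?_
              rw [show a * b = (a * x) * (b * x) by
                rw [hE.comm b hb.1 x hx, mul_assoc a, ← mul_assoc x, hE.sq x hx, one_mul]]
              exact mul_mem h1 h2 }
      have hEA : E' ≤ A := fun y hy => ⟨hE'le hy, Or.inl hy⟩
      have hxA : x ∈ A := ⟨hx, Or.inr (by rw [hE.sq x hx]; exact one_mem _)⟩
      refine hcon.1 (hE'max ⟨fun y (hy : y ∈ A) => hy.1, fun huA => ?_⟩ hEA hxA)
      rcases huA.2 with h | h
      · exact huE' h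
      · exact hcon.2 (hE.comm x hx u huE ▸ h)
    have hcard : Nat.card E' ≤ n := by
      have hlt : E' < E := lt_of_le_of_ne hE'le fun h => huE' (h ▸ huE)
      have h1 : (E' : Set G).ncard < (E : Set G).ncard := Set.ncard_lt_ncard hlt (Set.toFinite _)
      rw [← Nat.card_coe_set_eq, ← Nat.card_coe_set_eq] at h1
      exact Nat.lt_succ_iff.1 (lt_of_lt_of_le h1 hn)
    set V₂ := V₀.map (ρ u - 1) with hV₂
    have hV₂le : V₂ ≤ V₀ := by
      rintro _ ⟨v, hv, rfl⟩
      rw [LinearMap.sub_apply, Module.End.one_apply]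
      exact sub_mem (huk v hv) hv
    have hne : V₂ ≠ ⊥ := by
      intro h0
      have htriv : TrivOn ρ V₀ u := fun v hv => by
        have h1 : (ρ u - 1) v ∈ V₂ := ⟨v, hv, rfl⟩
        rw [h0, Submodule.mem_bot, LinearMap.sub_apply, Module.End.one_apply, sub_eq_zero] at h1
        exact h1
      obtain ⟨v, hv, hnt⟩ := hE.faith u huE hu1
      refine hnt ?_
      rw [show u * v * u⁻¹ * v⁻¹ = u * (v * u⁻¹ * v⁻¹) by group]
      exact htriv.mul (htriv.inv.conj (hQ.keeps _ (inv_mem hv)))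
    have hQ₂le : Q₂ ≤ Q := fixOn_le hQ hun huk
    -- triviality on `V₂` of central elements of `Q₂`
    have hscal : ∀ x ∈ Q₂, (∀ w ∈ Q₂, TrivOn ρ V₂ ⁅x, w⁆) →
        ∃ c : K, ∀ v ∈ V₀, ρ x v = c • v := by
      intro x hx hxc
      have hxQ := hQ₂le hx
      have hx₂ : ∀ w ∈ Q₂, TrivOn ρ V₀ ⁅x, w⁆ := by
        intro w hw
        obtain ⟨c, hc⟩ := hQ.central (comm_mem hxQ (hQ₂le hw)) fun z hz =>
          hQ.cls x hxQ w (hQ₂le hw) z hz
        obtain ⟨y, hy, hy0⟩ := (Submodule.ne_bot_iff V₂).1 hne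
        have h1 := hxc w hw y hy
        rw [hc y (hV₂le hy)] at h1
        have hc1 : c = 1 := by
          have h2 : (c - 1) • y = 0 := by rw [_root_.sub_smul, one_smul, h1, sub_self]
          exact sub_eq_zero.1 ((smul_eq_zero.1 h2).resolve_right hy0)
        intro v hv
        rw [hc v hv, hc1, one_smul]
      refine hQ.scalar x hxQ fun v hv => ?_
      have hm := mul_conj_mem_fixOn hQ hun huk hu2 hv
      set vu := u * v * u⁻¹ with hvu
      have hvuQ : vu ∈ Q := conj_mem hun hv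
      obtain ⟨c, hc⟩ := hQ.central (comm_mem hxQ hv) fun z hz => hQ.cls x hxQ v hv z hz
      obtain ⟨c', hc'⟩ := hQ.central (comm_mem hxQ hvuQ) fun z hz => hQ.cls x hxQ vu hvuQ z hz
      -- `[x, v]` and `[x, v ^ u]` agree
      have hconj : ∀ y ∈ V₀, ρ ⁅x, vu⁆ y = c • y := by
        intro y hy
        have h1 := FreeData.scalar_conj hc (u := u)
          (by rw [inv_eq_of_mul_eq_one_right hu2]; exact huk) y hy
        set z := u * x * u⁻¹ * x⁻¹ with hz
        have hzt : TrivOn ρ V₀ z := hx.2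
        have e : u * ⁅x, v⁆ * u⁻¹ = z * ⁅x, vu⁆ * (vu * z⁻¹ * vu⁻¹) := by
          rw [hz, hvu, commutatorElement_def, commutatorElement_def]; group
        rw [e, map_mul, Module.End.mul_apply, (hzt.inv.conj (hQ.keeps _ (inv_mem hvuQ))) y hy,
          map_mul, Module.End.mul_apply, hzt _ (hQ.keeps _ (comm_mem hxQ hvuQ) y hy)] at h1
        exact h1
      refine TrivOn.of_sq (hQ.odd_order (comm_mem hxQ hv)) fun y hy => ?_
      have e : ⁅x, v * vu⁆ = ⁅x, v⁆ * ⁅x, vu⁆ := by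
        rw [show ⁅x, v * vu⁆ = ⁅x, v⁆ * (v * ⁅x, vu⁆ * v⁻¹) by
          simp only [commutatorElement_def]; group, ← hQ.cls x hxQ vu hvuQ v hv,
          mul_inv_cancel_right]
      have h1 := hx₂ _ hm y hy
      rw [e, map_mul, Module.End.mul_apply, hconj y hy, map_smul, hc y hy] at h1
      rw [map_mul, Module.End.mul_apply, hc y hy, map_smul, hc y hy]
      exact h1
    have hdata : FreeData ρ V₂ Q₂ := by
      refine ⟨hne, ?_, hQ.odd.of_dvd_nat (Subgroup.card_dvd_of_le hQ₂le),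
        fun a ha b hb c hc => hQ.cls a (hQ₂le ha) b (hQ₂le hb) c (hQ₂le hc), fun x hx hxc => ?_⟩
      · rintro g hg _ ⟨v, hv, rfl⟩
        exact ⟨ρ g v, hQ.keeps g (hQ₂le hg) v hv,
          (apply_sub_one_comm (hQ.keeps g (hQ₂le hg)) huk hg.2 hv).symm⟩
      · obtain ⟨c, hc⟩ := hscal x hx hxc
        exact ⟨c, fun v hv => hc v (hV₂le hv)⟩
    have hacts : ActsFree ρ V₂ Q₂ E' := by
      refine ⟨?_, ?_, fun e he => hE.sq e (hE'le he),
        fun a ha b hb => hE.comm a (hE'le ha) b (hE'le hb), ?_⟩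
      · intro e he
        have heE := hE'le he
        have he' : e⁻¹ = e := inv_eq_of_mul_eq_one_right (hE.sq e heE)
        have key : ∀ x ∈ Q₂, e * x * e⁻¹ ∈ Q₂ := by
          intro x hx
          refine ⟨conj_mem (hE.norm heE) (hQ₂le hx), ?_⟩
          have hc : u * e = e * u := hE.comm u huE e heE
          rw [show u * (e * x * e⁻¹) * u⁻¹ * (e * x * e⁻¹)⁻¹ =
            e * (u * x * u⁻¹ * x⁻¹) * e⁻¹ by
              rw [show u * (e * x * e⁻¹) * u⁻¹ = (u * e) * x * (u * e)⁻¹ by group, hc]; group]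
          exact hx.2.conj (by rw [he']; exact hE.keeps e heE)
        rw [mem_normalizer_iff]
        refine fun x => ⟨key x, fun hx => ?_⟩
        have h1 := key _ hx
        rwa [show e * (e * x * e⁻¹) * e⁻¹ = (e * e) * x * (e * e)⁻¹ by group, hE.sq e heE, one_mul,
          inv_one, mul_one] at h1
      · rintro e he _ ⟨v, hv, rfl⟩
        refine ⟨ρ e v, hE.keeps e (hE'le he) v hv,
          (apply_sub_one_comm (hE.keeps e (hE'le he)) huk ?_ hv).symm⟩
        rw [hE.comm u huE e (hE'le he), mul_inv_cancel_right, mul_inv_cancel]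
        intro w _
        rw [map_one, Module.End.one_apply]
      · intro e he he1
        have heE := hE'le he
        by_contra hall
        push Not at hall
        have hen := hE.norm heE
        have hek := hE.keeps e heE
        have hle : Q₂ ≤ fixOn hQ hen hek := by
          intro x hx
          refine ⟨hQ₂le hx, ?_⟩
          set d := e * x * e⁻¹ * x⁻¹ with hd
          have hdt : TrivOn ρ V₂ d := hall x hx
          have hdQ₂ : d ∈ Q₂ := by
            refine mul_mem ⟨conj_mem hen (hQ₂le hx), ?_⟩ (inv_mem hx)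
            have hc : u * e = e * u := hE.comm u huE e heE
            rw [show u * (e * x * e⁻¹) * u⁻¹ * (e * x * e⁻¹)⁻¹ =
              e * (u * x * u⁻¹ * x⁻¹) * e⁻¹ by
                rw [show u * (e * x * e⁻¹) * u⁻¹ = (u * e) * x * (u * e)⁻¹ by group, hc]; group]
            exact hx.2.conj (by rw [inv_eq_of_mul_eq_one_right (hE.sq e heE)]; exact hek)
          obtain ⟨c, hc⟩ := hscal d hdQ₂ fun w hw => by
            have hk : Keeps ρ V₂ w⁻¹ := by
              rintro _ ⟨v, hv, rfl⟩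
              exact ⟨ρ w⁻¹ v, hQ.keeps _ (inv_mem (hQ₂le hw)) v hv,
                (apply_sub_one_comm (hQ.keeps _ (inv_mem (hQ₂le hw))) huk (inv_mem hw).2 hv).symm⟩
            rw [show ⁅d, w⁆ = d * (w * d⁻¹ * w⁻¹) by rw [commutatorElement_def]; group]
            exact hdt.mul (hdt.inv.conj hk)
          obtain ⟨y, hy, hy0⟩ := (Submodule.ne_bot_iff V₂).1 hne
          have h1 := hdt y hy
          rw [hc y (hV₂le hy)] at h1
          have hc1 : c = 1 := by
            have h2 : (c - 1) • y = 0 := by rw [_root_.sub_smul, one_smul, h1, sub_self]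
            exact sub_eq_zero.1 ((smul_eq_zero.1 h2).resolve_right hy0)
          intro v hv
          rw [hc v hv, hc1, one_smul]
        have hle' : fixOn hQ hen hek ≤ Q₂ := by
          have h1 := humax ⟨heE, he1⟩ (by rw [hF u huE, hF e heE]; exact hle)
          rwa [hF u huE, hF e heE] at h1
        have hue : u * e ≠ 1 := fun h => huE' (by
          rw [eq_inv_of_mul_eq_one_left h]; exact inv_mem he)
        obtain ⟨v, hv, hnt⟩ := hE.faith (u * e) (mul_mem huE heE) hue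
        exact hnt (trivOn_of_fixOn_eq hQ hun huk hu2 hen hek (hE.sq e heE) (hE.comm u huE e heE)
          hle hle' hv)
    obtain ⟨y, ⟨v, hv, rfl⟩, hy⟩ := ih hcard hdata hacts
    refine ⟨v, hv, ?_⟩
    rw [sumOf_pair huE hE'le huE' hcover hu2, Module.End.mul_apply]
    exact hy

end Cfsg.Agent.Lib.DerTwoLength71
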